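import Cfsg.Agent.H215.Count
import Cfsg.Agent.Lib.Hyperfocal

/-!
# The minimal failure: the cohomological argument
-/

set_option autoImplicit false
set_option linter.unusedSectionVars false
set_option linter.unusedVariables false

open Cfsg

namespace Cfsg.Agent.H215.Coh

open Cfsg.Agent.H215.Fun Cfsg.Agent.H215.Act Cfsg.Agent.H263.FF.Basic
open scoped Pointwise commutatorElement

/-! ### averaging -/

theorem cocycle_avg {X : Type*} [Group X] [Finite X] {F : Type*} [AddCommGroup F] [DistribMulAction X F] {p : ℕ}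
    (hp : p.Prime) (pF : ∀ v : F, p • v = 0) (δ : X → F) (hδ : ∀ x y, δ (x * y) = x • δ y + δ x) (T : Subgroup X)
    (hT : ∀ t ∈ T, δ t = 0) (hn : ¬ p ∣ T.index) : ∃ f : F, ∀ x, x • f = f - δ x := by
  classical
  have _ : Fintype (X ⧸ T) := Fintype.ofFinite _
  let d : X ⧸ T → F := fun c => Quotient.liftOn' c δ (by
    intro a b hab
    rw [QuotientGroup.leftRel_apply] at hab
    have h1 := hδ a (a⁻¹ * b)
    rw [mul_inv_cancel_left, hT _ hab, smul_zero, zero_add] at h1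
    exact h1.symm)
  have hd : ∀ (x : X) (c : X ⧸ T), d (x • c) = x • d c + δ x := by
    intro x c
    induction c using QuotientGroup.induction_on with
    | H a => exact hδ x a
  have h1 : ∀ x, x • (∑ c, d c) = (∑ c, d c) - T.index • δ x := by
    intro x
    have h2 : ∑ c, d c = ∑ c, (x • d c + δ x) := by
      rw [← Equiv.sum_comp (MulAction.toPerm x) d]
      exact Finset.sum_congr rfl fun c _ => hd x c
    rw [Finset.sum_add_distrib, Finset.sum_const, Finset.card_univ, ← Nat.card_eq_fintype_card,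
      ← Subgroup.index_eq_card, ← Finset.smul_sum] at h2
    rw [eq_sub_iff_add_eq]
    exact h2.symm
  have hc : Nat.Coprime T.index p := (Nat.coprime_comm.1 ((Nat.Prime.coprime_iff_not_dvd hp).2 hn))
  obtain ⟨k, -, hk⟩ := Nat.exists_mul_mod_eq_one_of_coprime hc hp.one_lt
  refine ⟨k • ∑ c, d c, fun x => ?_⟩
  have h3 : (T.index * k) • δ x = δ x := by
    rw [← Nat.div_add_mod (T.index * k) p, hk, add_smul, one_smul, mul_comm, mul_smul, pF, smul_zero, zero_add]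
  calc x • (k • ∑ c, d c) = k • (x • ∑ c, d c) := by rw [smul_comm]
    _ = k • (∑ c, d c) - (T.index * k) • δ x := by rw [h1, smul_sub, mul_comm, mul_smul]
    _ = _ := by rw [h3]

/-! ### equivariant maps from subgroups -/

variable {G : Type*} [Group G]

/-- an `H`-equivariant nonzero homomorphism from `U` to `F` -/
structure EqH (H : Subgroup G) (F : Type*) [AddCommGroup F] [DistribMulAction G F] (U : Subgroup G) (θ : G → F) :
    Prop where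
  inv : ∀ h ∈ H, ∀ u ∈ U, h * u * h⁻¹ ∈ U
  add : ∀ x ∈ U, ∀ y ∈ U, θ (x * y) = θ x + θ y
  eqv : ∀ h ∈ H, ∀ u ∈ U, θ (h * u * h⁻¹) = h • θ u
  ne : ∃ u ∈ U, θ u ≠ 0

namespace EqH

variable {H : Subgroup G} {F : Type*} [AddCommGroup F] [DistribMulAction G F] {U : Subgroup G} {θ : G → F}
variable (e : EqH H F U θ)
include e

theorem one : θ 1 = 0 := by
  have := e.add 1 (one_mem _) 1 (one_mem _)
  rw [mul_one] at this
  exact (add_eq_left.1 this.symm)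

theorem neg {x : G} (hx : x ∈ U) : θ x⁻¹ = - θ x := by
  have := e.add x hx x⁻¹ (inv_mem hx)
  rw [mul_inv_cancel, e.one] at this
  exact (neg_eq_of_add_eq_zero_right this.symm).symm

theorem surj (irr : ∀ N : AddSubgroup F, (∀ x ∈ H, ∀ v ∈ N, x • v ∈ N) → N = ⊥ ∨ N = ⊤) (v : F) : ∃ u ∈ U, θ u = v := by
  let N : AddSubgroup F :=
    { carrier := {v | ∃ u ∈ U, θ u = v}
      zero_mem' := ⟨1, one_mem _, e.one⟩
      add_mem' := by
        rintro _ _ ⟨x, hx, rfl⟩ ⟨y, hy, rfl⟩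
        exact ⟨x * y, mul_mem hx hy, e.add x hx y hy⟩
      neg_mem' := by
        rintro _ ⟨x, hx, rfl⟩
        exact ⟨x⁻¹, inv_mem hx, e.neg hx⟩ }
  have h1 : N = ⊤ := by
    refine (irr N ?_).resolve_left ?_
    · rintro h hh _ ⟨x, hx, rfl⟩
      exact ⟨h * x * h⁻¹, e.inv h hh x hx, e.eqv h hh x hx⟩
    · intro h2
      obtain ⟨u, hu, hu'⟩ := e.ne
      apply hu'
      have h3 : θ u ∈ N := ⟨u, hu, rfl⟩
      rw [h2] at h3
      exact AddSubgroup.mem_bot.1 h3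
  have h2 : v ∈ N := by rw [h1]; trivial
  exact h2

end EqH

/-- nilpotency -/
theorem nil [Finite G] {p : ℕ} [hp : Fact p.Prime] {Q N : Subgroup G} (hQ : IsPGroup p Q) (hN : N ≤ Q) (h : N ≤ ⁅N, Q⁆) : N = ⊥ := by
  have _ : Group.IsNilpotent Q := hQ.isNilpotent
  have h1 : N.subgroupOf Q ≤ ⁅N.subgroupOf Q, (⊤ : Subgroup Q)⁆ := by
    have h2 : (⁅N.subgroupOf Q, (⊤ : Subgroup Q)⁆).map Q.subtype = ⁅N, Q⁆ := by
      rw [Subgroup.map_commutator, ← MonoidHom.range_eq_map, Q.range_subtype, Subgroup.subgroupOf_map_subtype, inf_eq_left.2 hN]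
    intro x hx
    have h3 : (x : G) ∈ (⁅N.subgroupOf Q, (⊤ : Subgroup Q)⁆).map Q.subtype := by
      rw [h2]; exact h hx
    obtain ⟨y, hy, hxy⟩ := h3
    have h4 : y = x := Subtype.ext hxy
    rwa [← h4]
  have h2 := Cfsg.Agent.Lib.Hyperfocal.eq_bot_of_le_commutator h1
  rw [Subgroup.subgroupOf_eq_bot, disjoint_iff, inf_eq_left.2 hN] at h2
  exact h2

/-- **a minimal source is centralized by `I`** -/
theorem comm_of_min [Finite G] {p : ℕ} [hp : Fact p.Prime] {Q I H : Subgroup G} (hQ : IsPGroup p Q) (hI : I ≤ Q)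
    (hIH : I ≤ H) (hH : ∀ h ∈ H, ∀ i ∈ I, h * i = i * h)
    {F : Type*} [AddCommGroup F] [DistribMulAction G F] {U : Subgroup G} {θ : G → F} (e : EqH H F U θ)
    (hU : U ≤ Q)
    (hmin : ∀ (U' : Subgroup G) (θ' : G → F), U' ≤ U → EqH H F U' θ' → U' = U) :
    ∀ u ∈ U, ∀ i ∈ I, u * i = i * u := by
  classical
  -- `[U, I]`
  have hUne : U ≠ ⊥ := by
    rintro rfl
    obtain ⟨u, hu, hu'⟩ := e.ne
    rw [Subgroup.mem_bot] at hu
    rw [hu, e.one] at hu'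
    exact hu' rfl
  set D₁ := ⁅U, I⁆ with hD₁
  have hD₁U : D₁ ≤ U := by
    rw [hD₁, Subgroup.commutator_le]
    intro u hu i hi
    rw [commutatorElement_def]
    have h1 := e.inv i (hIH hi) u⁻¹ (inv_mem hu)
    have h2 := mul_mem hu h1
    rwa [show u * (i * u⁻¹ * i⁻¹) = u * i * u⁻¹ * i⁻¹ by group] at h2
  have hD₁ne : ¬ U ≤ D₁ := by
    intro h
    exact hUne (nil hQ hU (h.trans (Subgroup.commutator_mono le_rfl hI)))
  have hHU : H ≤ Subgroup.normalizer (U : Set G) := by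
    intro h hh
    rw [Subgroup.mem_normalizer_iff]
    intro u
    refine ⟨fun hu => e.inv h hh u hu, fun hu => ?_⟩
    have h1 := e.inv h⁻¹ (inv_mem hh) _ hu
    rwa [show h⁻¹ * (h * u * h⁻¹) * h⁻¹⁻¹ = u by group] at h1
  have hHI : ∀ h ∈ H, ∀ i ∈ I, h * i * h⁻¹ = i := by
    intro h hh i hi
    rw [hH h hh i hi, mul_inv_cancel_right]
  have conjcomm : ∀ h ∈ H, ∀ u : G, ∀ i ∈ I, h * ⁅u, i⁆ * h⁻¹ = ⁅h * u * h⁻¹, i⁆ := by
    intro h hh u i hi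
    rw [commutatorElement_def, commutatorElement_def]
    calc h * (u * i * u⁻¹ * i⁻¹) * h⁻¹ = (h * u * h⁻¹) * (h * i * h⁻¹) * (h * u * h⁻¹)⁻¹ * (h * i * h⁻¹)⁻¹ := by group
      _ = _ := by rw [hHI h hh i hi]
  have hHD : ∀ h ∈ H, ∀ d ∈ D₁, h * d * h⁻¹ ∈ D₁ := by
    intro h hh d hd
    have h1 : D₁ ≤ D₁.comap (MulAut.conj h).toMonoidHom := by
      nth_rewrite 1 [hD₁]
      rw [Subgroup.commutator_le]
      intro u hu i hi
      show h * ⁅u, i⁆ * h⁻¹ ∈ D₁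
      rw [conjcomm h hh u i hi]
      exact Subgroup.commutator_mem_commutator (e.inv h hh u hu) hi
    exact h1 hd
  have hUD : ∀ u ∈ U, ∀ d ∈ D₁, u * d * u⁻¹ ∈ D₁ := by
    intro x hx d hd
    have h1 : D₁ ≤ D₁.comap (MulAut.conj x).toMonoidHom := by
      nth_rewrite 1 [hD₁]
      rw [Subgroup.commutator_le]
      intro u hu i hi
      show x * ⁅u, i⁆ * x⁻¹ ∈ D₁
      have h2 : x * ⁅u, i⁆ * x⁻¹ = ⁅x * u, i⁆ * ⁅x, i⁆⁻¹ := by
        simp only [commutatorElement_def]; group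
      rw [h2]
      exact mul_mem (Subgroup.commutator_mem_commutator (mul_mem hx hu) hi)
        (inv_mem (Subgroup.commutator_mem_commutator hx hi))
    exact h1 hd
  by_contra hcon
  push Not at hcon
  obtain ⟨u₀, hu₀, i₀, hi₀, hne⟩ := hcon
  -- `[D₁, U]`
  set N₁ := ⁅D₁, U⁆ with hN₁
  have hN₁D : N₁ ≤ D₁ := by
    rw [hN₁, Subgroup.commutator_le]
    intro d hd u hu
    rw [commutatorElement_def]
    have h2 := mul_mem hd (hUD u hu d⁻¹ (inv_mem hd))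
    rwa [show d * (u * d⁻¹ * u⁻¹) = d * u * d⁻¹ * u⁻¹ by group] at h2
  have hnle : ¬ D₁ ≤ N₁ := by
    intro h
    have h1 : D₁ = ⊥ := nil hQ (hD₁U.trans hU) (h.trans (Subgroup.commutator_mono le_rfl hU))
    have h2 : ⁅u₀, i₀⁆ ∈ D₁ := Subgroup.commutator_mem_commutator hu₀ hi₀
    rw [h1, Subgroup.mem_bot, commutatorElement_eq_one_iff_mul_comm] at h2
    exact hne h2
  obtain ⟨u₁, hu₁, i, hi, hui⟩ : ∃ u ∈ U, ∃ i ∈ I, ⁅u, i⁆ ∉ N₁ := by
    by_contra hcon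
    push Not at hcon
    exact hnle (Subgroup.commutator_le.2 hcon)
  have hHN : ∀ h ∈ H, ∀ d ∈ N₁, h * d * h⁻¹ ∈ N₁ := by
    intro h hh d hd
    have h1 : N₁ ≤ N₁.comap (MulAut.conj h).toMonoidHom := by
      nth_rewrite 1 [hN₁]
      rw [Subgroup.commutator_le]
      intro u hu i hi
      show h * ⁅u, i⁆ * h⁻¹ ∈ N₁
      have h2 : h * ⁅u, i⁆ * h⁻¹ = ⁅h * u * h⁻¹, h * i * h⁻¹⁆ := by
        simp only [commutatorElement_def]; group
      rw [h2]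
      exact Subgroup.commutator_mem_commutator (hHD h hh u hu) (e.inv h hh i hi)
    exact h1 hd
  have hUN : ∀ u ∈ U, ∀ d ∈ D₁, ⁅u, d⁆ ∈ N₁ := by
    intro u hu d hd
    rw [hN₁, Subgroup.commutator_comm]
    exact Subgroup.commutator_mem_commutator hu hd
  have hUN' : ∀ u ∈ U, ∀ d ∈ N₁, u * d * u⁻¹ ∈ N₁ := by
    intro u hu d hd
    have h1 := mul_mem (hUN u hu d (hN₁D hd)) hd
    rwa [commutatorElement_def, inv_mul_cancel_right] at h1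
  -- congruence modulo `N₁`: `x ≡ y` iff `x⁻¹ y ∈ N₁`
  have hmulU : ∀ u ∈ U, ∀ v ∈ U, (⁅u, i⁆ * ⁅v, i⁆)⁻¹ * ⁅u * v, i⁆ ∈ N₁ := by
    intro u hu v hv
    -- `⁅u v, i⁆ = (u ⁅v,i⁆ u⁻¹) ⁅u,i⁆`
    set a := ⁅u, i⁆ with ha
    set b := ⁅v, i⁆ with hb
    have haD : a ∈ D₁ := Subgroup.commutator_mem_commutator hu hi
    have hbD : b ∈ D₁ := Subgroup.commutator_mem_commutator hv hi
    have h1 : ⁅u * v, i⁆ = u * b * u⁻¹ * a := by
      rw [ha, hb]; simp only [commutatorElement_def]; group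
    have h2 : (a * b)⁻¹ * ⁅u * v, i⁆ = (b⁻¹ * (a⁻¹ * ⁅u, b⁆ * a⁻¹⁻¹) * b⁻¹⁻¹) * (b⁻¹ * a⁻¹ * b * a) := by
      rw [h1]; simp only [commutatorElement_def]; group
    rw [h2]
    have haU := hD₁U haD
    have hbU := hD₁U hbD
    refine mul_mem (hUN' _ (inv_mem hbU) _ (hUN' _ (inv_mem haU) _ (hUN u hu b hbD))) ?_
    have h3 := hUN b⁻¹ (inv_mem hbU) a⁻¹ (inv_mem haD)
    rwa [commutatorElement_def, inv_inv, inv_inv] at h3
  have hinvU : ∀ u ∈ U, ⁅u, i⁆ * ⁅u⁻¹, i⁆ ∈ N₁ := by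
    intro u hu
    have h1 := hmulU u hu u⁻¹ (inv_mem hu)
    rw [mul_inv_cancel, commutatorElement_one_left, mul_one] at h1
    have := inv_mem h1
    rwa [inv_inv] at this
  -- normality of `N₁` in `U` for swapping
  have swap : ∀ {x y : G}, y ∈ U → x * y ∈ N₁ → y * x ∈ N₁ := by
    intro x y hy h
    have h1 := hUN' y hy _ h
    rwa [show y * (x * y) * y⁻¹ = y * x by group] at h1
  -- the kernel
  let Kr : Subgroup G :=
    { carrier := {u | u ∈ U ∧ ⁅u, i⁆ ∈ N₁}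
      one_mem' := ⟨one_mem _, by rw [commutatorElement_one_left]; exact one_mem _⟩
      mul_mem' := by
        rintro u v ⟨hu, hu'⟩ ⟨hv, hv'⟩
        refine ⟨mul_mem hu hv, ?_⟩
        have h1 := mul_mem (mul_mem hu' hv') (hmulU u hu v hv)
        rwa [mul_inv_cancel_left] at h1
      inv_mem' := by
        rintro u ⟨hu, hu'⟩
        refine ⟨inv_mem hu, ?_⟩
        have h1 := mul_mem (inv_mem hu') (hinvU u hu)
        rwa [inv_mul_cancel_left] at h1 }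
  have hKr : ∀ u, u ∈ Kr ↔ u ∈ U ∧ ⁅u, i⁆ ∈ N₁ := fun u => Iff.rfl
  have hKrU : Kr ≤ U := fun u hu => hu.1
  have hKrθ : ∀ u ∈ Kr, θ u = 0 := by
    intro u hu
    by_contra hne
    have h1 : EqH H F Kr θ :=
      { inv := by
          intro h hh u hu
          refine ⟨e.inv h hh u hu.1, ?_⟩
          rw [← conjcomm h hh u i hi]
          exact hHN h hh _ hu.2
        add := fun x hx y hy => e.add x hx.1 y hy.1
        eqv := fun h hh u hu => e.eqv h hh u hu.1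
        ne := ⟨u, hu, hne⟩ }
    have h2 := hmin Kr θ hKrU h1
    have h3 : u₁ ∈ Kr := by rw [h2]; exact hu₁
    exact hui h3.2
  -- the image
  let D₂ : Subgroup G :=
    { carrier := {x | ∃ u ∈ U, ⁅u, i⁆⁻¹ * x ∈ N₁}
      one_mem' := ⟨1, one_mem _, by rw [commutatorElement_one_left, inv_one, mul_one]; exact one_mem _⟩
      mul_mem' := by
        rintro x y ⟨u, hu, hx⟩ ⟨v, hv, hy⟩
        refine ⟨u * v, mul_mem hu hv, ?_⟩
        have hvD : ⁅v, i⁆ ∈ D₁ := Subgroup.commutator_mem_commutator hv hi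
        have h1 := hUN' _ (inv_mem (hD₁U hvD)) _ hx
        have h2 := mul_mem (mul_mem (inv_mem (hmulU u hu v hv)) h1) hy
        have h3 : ((⁅u, i⁆ * ⁅v, i⁆)⁻¹ * ⁅u * v, i⁆)⁻¹ * (⁅v, i⁆⁻¹ * (⁅u, i⁆⁻¹ * x) * ⁅v, i⁆⁻¹⁻¹) * (⁅v, i⁆⁻¹ * y) =
            ⁅u * v, i⁆⁻¹ * (x * y) := by group
        rwa [h3] at h2
      inv_mem' := by
        rintro x ⟨u, hu, hx⟩
        refine ⟨u⁻¹, inv_mem hu, ?_⟩
        -- `⁅u⁻¹,i⁆⁻¹ x⁻¹`
        have huD : ⁅u, i⁆ ∈ D₁ := Subgroup.commutator_mem_commutator hu hi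
        have huD' : ⁅u⁻¹, i⁆ ∈ D₁ := Subgroup.commutator_mem_commutator (inv_mem hu) hi
        have h1 := inv_mem (hinvU u hu)
        -- `⁅u⁻¹,i⁆⁻¹ ⁅u,i⁆⁻¹ ∈ N₁`
        rw [mul_inv_rev] at h1
        have h2 : (⁅u, i⁆⁻¹ * x)⁻¹ ∈ N₁ := inv_mem hx
        have h3 := hUN' _ (hD₁U huD) _ h2
        have h4 := mul_mem h1 h3
        have h5 : ⁅u⁻¹, i⁆⁻¹ * ⁅u, i⁆⁻¹ * (⁅u, i⁆ * (⁅u, i⁆⁻¹ * x)⁻¹ * ⁅u, i⁆⁻¹) = ⁅u⁻¹, i⁆⁻¹ * x⁻¹ := by group
        rwa [h5] at h4 }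
  have hD₂ : ∀ x, x ∈ D₂ ↔ ∃ u ∈ U, ⁅u, i⁆⁻¹ * x ∈ N₁ := fun x => Iff.rfl
  have hD₂D : D₂ ≤ D₁ := by
    rintro x ⟨u, hu, hx⟩
    have h1 := mul_mem (Subgroup.commutator_mem_commutator hu hi : ⁅u, i⁆ ∈ D₁) (hN₁D hx)
    rwa [mul_inv_cancel_left] at h1
  -- the map
  let s : G → G := fun x => if h : x ∈ D₂ then h.choose else 1
  have hs : ∀ x ∈ D₂, s x ∈ U ∧ ⁅s x, i⁆⁻¹ * x ∈ N₁ := by
    intro x hx
    have : s x = ((hD₂ x).1 hx).choose := dif_pos hx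
    rw [this]
    exact ((hD₂ x).1 hx).choose_spec
  have huniq : ∀ x : G, ∀ u ∈ U, ∀ v ∈ U, ⁅u, i⁆⁻¹ * x ∈ N₁ → ⁅v, i⁆⁻¹ * x ∈ N₁ → θ u = θ v := by
    intro x u hu v hv h1 h2
    -- `⁅u,i⁆⁻¹ ⁅v,i⁆ ∈ N₁`
    have h3 : ⁅u, i⁆⁻¹ * ⁅v, i⁆ ∈ N₁ := by
      have := mul_mem h1 (inv_mem h2)
      rwa [show ⁅u, i⁆⁻¹ * x * (⁅v, i⁆⁻¹ * x)⁻¹ = ⁅u, i⁆⁻¹ * ⁅v, i⁆ by group] at this
    have h4 : u⁻¹ * v ∈ Kr := by
      refine ⟨mul_mem (inv_mem hu) hv, ?_⟩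
      have h5 := hmulU u⁻¹ (inv_mem hu) v hv
      -- `⁅u⁻¹,i⁆ ⁅v,i⁆ ∈ N₁`
      have huD : ⁅u, i⁆ ∈ D₁ := Subgroup.commutator_mem_commutator hu hi
      have huD' : ⁅u⁻¹, i⁆ ∈ D₁ := Subgroup.commutator_mem_commutator (inv_mem hu) hi
      have h6 : ⁅u⁻¹, i⁆ * ⁅u, i⁆ ∈ N₁ := by
        have := hinvU u⁻¹ (inv_mem hu)
        rwa [inv_inv] at this
      have h7 := mul_mem h6 h3
      rw [show ⁅u⁻¹, i⁆ * ⁅u, i⁆ * (⁅u, i⁆⁻¹ * ⁅v, i⁆) = ⁅u⁻¹, i⁆ * ⁅v, i⁆ by group] at h7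
      have h8 := mul_mem h7 h5
      rwa [mul_inv_cancel_left] at h8
    have h5 := hKrθ _ h4
    rw [e.add _ (inv_mem hu) _ hv, e.neg hu, neg_add_eq_zero] at h5
    exact h5
  have e₂ : EqH H F D₂ (fun x => θ (s x)) :=
    { inv := by
        rintro h hh x ⟨u, hu, hx⟩
        refine ⟨h * u * h⁻¹, e.inv h hh u hu, ?_⟩
        rw [← conjcomm h hh u i hi]
        have h1 := hHN h hh _ hx
        rwa [show h * (⁅u, i⁆⁻¹ * x) * h⁻¹ = (h * ⁅u, i⁆ * h⁻¹)⁻¹ * (h * x * h⁻¹) by group] at h1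
      add := by
        intro x hx y hy
        obtain ⟨hxU, hx'⟩ := hs x hx
        obtain ⟨hyU, hy'⟩ := hs y hy
        obtain ⟨hxyU, hxy'⟩ := hs _ (mul_mem hx hy)
        show θ (s (x * y)) = θ (s x) + θ (s y)
        rw [← e.add _ hxU _ hyU]
        refine huniq (x * y) _ hxyU _ (mul_mem hxU hyU) hxy' ?_
        have hvD : ⁅s y, i⁆ ∈ D₁ := Subgroup.commutator_mem_commutator hyU hi
        have h1 := hUN' _ (inv_mem (hD₁U hvD)) _ hx'
        have h2 := mul_mem (mul_mem (inv_mem (hmulU _ hxU _ hyU)) h1) hy'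
        have h3 : ((⁅s x, i⁆ * ⁅s y, i⁆)⁻¹ * ⁅s x * s y, i⁆)⁻¹ * (⁅s y, i⁆⁻¹ * (⁅s x, i⁆⁻¹ * x) * ⁅s y, i⁆⁻¹⁻¹) * (⁅s y, i⁆⁻¹ * y) =
            ⁅s x * s y, i⁆⁻¹ * (x * y) := by group
        rwa [h3] at h2
      eqv := by
        intro h hh x hx
        obtain ⟨hxU, hx'⟩ := hs x hx
        have hx2 : h * x * h⁻¹ ∈ D₂ := by
          refine ⟨h * s x * h⁻¹, e.inv h hh _ hxU, ?_⟩
          rw [← conjcomm h hh _ i hi]
          have h1 := hHN h hh _ hx'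
          rwa [show h * (⁅s x, i⁆⁻¹ * x) * h⁻¹ = (h * ⁅s x, i⁆ * h⁻¹)⁻¹ * (h * x * h⁻¹) by group] at h1
        obtain ⟨hxU2, hx2'⟩ := hs _ hx2
        show θ (s (h * x * h⁻¹)) = h • θ (s x)
        rw [← e.eqv h hh _ hxU]
        refine huniq _ _ hxU2 _ (e.inv h hh _ hxU) hx2' ?_
        rw [← conjcomm h hh _ i hi]
        have h1 := hHN h hh _ hx'
        rwa [show h * (⁅s x, i⁆⁻¹ * x) * h⁻¹ = (h * ⁅s x, i⁆ * h⁻¹)⁻¹ * (h * x * h⁻¹) by group] at h1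
      ne := by
        obtain ⟨u, hu, hu'⟩ := e.ne
        have h1 : ⁅u, i⁆ ∈ D₂ := ⟨u, hu, by rw [inv_mul_cancel]; exact one_mem _⟩
        refine ⟨⁅u, i⁆, h1, ?_⟩
        obtain ⟨h2, h3⟩ := hs _ h1
        show θ (s ⁅u, i⁆) ≠ 0
        rw [huniq _ _ h2 _ hu h3 (by rw [inv_mul_cancel]; exact one_mem _)]
        exact hu' }
  have h1 := hmin D₂ _ (hD₂D.trans hD₁U) e₂
  exact hD₁ne (by rw [← h1]; exact hD₂D)

end Cfsg.Agent.H215.Coh
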