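import Cfsg.Agent.H215.RO
import Cfsg.Agent.H39.FTMain

/-!
# Control of transfer by the normalizers of `Z(S)` and `K(S)`, `p` odd
-/

set_option autoImplicit false
set_option linter.unusedSectionVars false
set_option linter.unusedVariables false

open Cfsg

namespace Cfsg.Agent.H215.Ctrl

open Cfsg.Agent.H39 Cfsg.Agent.H215.Fun Cfsg.Agent.H215.Setup Cfsg.Agent.H215.Setup.Min
open scoped commutatorElement

universe u

/-! ### the functors -/

/-- the centre -/
def ZF : Fn.{u} := fun Q _ => Zs (⊤ : Subgroup Q)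

/-- the functor `K` -/
noncomputable def KF : Fn.{u} := fun Q _ => K (⊤ : Subgroup Q)

section

variable {X : Type u} [Group X] [Finite X]

theorem induced_ZF (P : Subgroup X) : inducedFunctor (G := X) ZF P = Zs P := by
  show (Zs (⊤ : Subgroup P)).map P.subtype = Zs P
  rw [← Zs_map _ P.subtype_injective, top_map_subtype]

theorem induced_KF (P : Subgroup X) : inducedFunctor (G := X) KF P = K P := by
  show (K (⊤ : Subgroup P)).map P.subtype = K P
  rw [← K_map _ P.subtype_injective, top_map_subtype]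

variable {p : ℕ} [hp : Fact p.Prime]

theorem charZF : IsCharPFunctor.{u} p ZF := by
  constructor
  · intro Q _ _ hQ hnt h
    have h1 : Nontrivial (Subgroup.center Q) := hQ.center_nontrivial
    apply (Subgroup.nontrivial_iff_ne_bot _).1 h1
    rw [eq_bot_iff]
    intro x hx
    have h2 : x ∈ Zs (⊤ : Subgroup Q) := mem_Zs.2 ⟨trivial, fun y _ => Subgroup.mem_center_iff.1 hx y⟩
    have h3 : x ∈ (⊥ : Subgroup Q) := by
      have h4 : Zs (⊤ : Subgroup Q) = ⊥ := h
      rw [← h4]; exact h2
    exact h3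
  · intro Q R _ _ _ hQ φ
    show (Zs (⊤ : Subgroup Q)).map φ.toMonoidHom = Zs (⊤ : Subgroup R)
    rw [← Zs_map _ (show Function.Injective φ.toMonoidHom from φ.injective),
      Subgroup.map_top_of_surjective _ (show Function.Surjective φ.toMonoidHom from φ.surjective)]

theorem charKF : IsCharPFunctor.{u} p KF := by
  constructor
  · intro Q _ _ hQ hnt h
    exact K_ne_bot (P := (⊤ : Subgroup Q)) top_ne_bot h
  · intro Q R _ _ _ hQ φ
    show (K (⊤ : Subgroup Q)).map φ.toMonoidHom = K (⊤ : Subgroup R)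
    rw [← K_map _ (show Function.Injective φ.toMonoidHom from φ.injective),
      Subgroup.map_top_of_surjective _ (show Function.Surjective φ.toMonoidHom from φ.surjective)]

theorem hW : ∀ W ∈ ({ZF, KF} : Set Fn.{u}), IsCharPFunctor.{u} p W := by
  rintro W (rfl | rfl)
  · exact charZF
  · exact charKF

end

/-! ### the focal subgroup -/

section focal

theorem focal_top {X : Type*} [Group X] [Finite X] {p : ℕ} [hp : Fact p.Prime] (P : Sylow p X) {C T : Subgroup X}
    [hC : C.Normal] (hPC : (P : Subgroup X) ≤ C) (h1 : (P : Subgroup X) ⊓ ⁅C, C⁆ ≤ T)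
    (h2 : (P : Subgroup X) ⊓ ⁅Subgroup.normalizer ((P : Subgroup X) : Set X), Subgroup.normalizer ((P : Subgroup X) : Set X)⁆ ≤ T) :
    (P : Subgroup X) ⊓ ⁅(⊤ : Subgroup X), ⊤⁆ ≤ T := by
  have h3 : (P : Subgroup X) ⊓ ⁅(⊤ : Subgroup X), ⊤⁆ = (P : Subgroup X).focalSubgroup := by
    rw [← Subgroup.commutator_inf_eq_focalSubgroup P, inf_comm]; rfl
  rw [h3, Subgroup.focalSubgroup_def, Subgroup.closure_le]
  rintro _ ⟨hg, x, hx, u, rfl⟩
  -- `u = n l`
  have hcase : ∃ n ∈ Subgroup.normalizer ((P : Subgroup X) : Set X), ∃ l ∈ C, u = n * l := by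
    have hLp : IsPGroup p (P : Subgroup X) := P.isPGroup'
    have hLi : ¬ p ∣ ((P : Subgroup X)).relIndex C := fun h =>
      P.not_dvd_index (h.trans (Subgroup.relIndex_dvd_index_of_le hPC))
    have hmapL : ((P : Subgroup X)).map (MulAut.conj u⁻¹).toMonoidHom ≤ C := by
      rintro _ ⟨y, hy, rfl⟩
      exact hC.conj_mem y (hPC hy) u⁻¹
    obtain ⟨l, hl, hle⟩ := Cfsg.Agent.Lib.GoldschmidtFusion.exists_conj_le_in (p := p) hLp hLi hmapL (hLp.map _)
    rw [Cfsg.Agent.Lib.GoldschmidtFusion.map_conj_map_conj] at hle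
    have hlx : l * u⁻¹ ∈ Subgroup.normalizer ((P : Subgroup X) : Set X) :=
      Cfsg.Agent.Lib.GoldschmidtFusion.mem_normalizer_iff_map_conj.2
        (Cfsg.Agent.Lib.GoldschmidtFusion.map_conj_le_of_le_normalizer hle)
    exact ⟨(l * u⁻¹)⁻¹, inv_mem hlx, l, hl, by group⟩
  obtain ⟨n, hn, l, hl, rfl⟩ := hcase
  set y := l * x * l⁻¹ with hy
  have hny : n * y⁻¹ * n⁻¹ ∈ (P : Subgroup X) := by
    have h4 := mul_mem (inv_mem hx) hg
    have h5 : x⁻¹ * ⁅x, n * l⁆ = n * y⁻¹ * n⁻¹ := by rw [commutatorElement_def, hy]; group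
    rwa [h5] at h4
  have hyP : y ∈ (P : Subgroup X) := by
    have h4 := (Subgroup.mem_normalizer_iff.1 hn y⁻¹).2 hny
    have h5 := inv_mem h4
    rwa [inv_inv] at h5
  have h6 : ⁅x, n * l⁆ = (x * y⁻¹) * ⁅y, n⁆ := by rw [commutatorElement_def, commutatorElement_def, hy]; group
  have h7 : x * y⁻¹ = ⁅x, l⁆ := by rw [commutatorElement_def, hy]; group
  rw [h6]
  refine mul_mem (h1 (Subgroup.mem_inf.2 ⟨mul_mem hx (inv_mem hyP), ?_⟩)) (h2 (Subgroup.mem_inf.2 ⟨?_, ?_⟩))
  · rw [h7]; exact Subgroup.commutator_mem_commutator (hPC hx) hl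
  · have h8 : ⁅y, n⁆ = y * (n * y⁻¹ * n⁻¹) := by rw [commutatorElement_def]; group
    rw [h8]; exact mul_mem hyP hny
  · exact Subgroup.commutator_mem_commutator (Subgroup.le_normalizer hyP) hn

/-- `P ∩ L' ≤ ⟨P ∩ C', P ∩ N_L(P)'⟩` if `P ≤ C ⊴ L`. -/
theorem focal_split {G : Type*} [Group G] [Finite G] {p : ℕ} [hp : Fact p.Prime] {P C L T : Subgroup G}
    (hP : IsPGroup p P) (hi : ¬ p ∣ P.relIndex L) (hPC : P ≤ C) (hCL : C ≤ L)
    (hC : ∀ l ∈ L, ∀ c ∈ C, l * c * l⁻¹ ∈ C) (h1 : P ⊓ ⁅C, C⁆ ≤ T)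
    (h2 : P ⊓ ⁅L ⊓ Subgroup.normalizer (P : Set G), L ⊓ Subgroup.normalizer (P : Set G)⁆ ≤ T) :
    P ⊓ ⁅L, L⁆ ≤ T := by
  have hPL : P ≤ L := hPC.trans hCL
  have hP' : IsPGroup p (P.subgroupOf L) := hP.comap_of_injective L.subtype L.subtype_injective
  have hCn : (C.subgroupOf L).Normal := by
    constructor
    intro c hc l
    rw [Subgroup.mem_subgroupOf] at hc ⊢
    exact hC l l.2 c hc
  have hmap : ∀ {K : Subgroup G}, K ≤ L → (K.subgroupOf L).map L.subtype = K := by
    intro K hK
    rw [Subgroup.subgroupOf_map_subtype, inf_eq_left.2 hK]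
  have key := focal_top (hP'.toSylow hi) (C := C.subgroupOf L) (T := T.subgroupOf L) (by
      intro x hx
      have hx' : x ∈ P.subgroupOf L := hx
      rw [Subgroup.mem_subgroupOf] at hx' ⊢
      exact hPC hx') (by
      intro x hx
      obtain ⟨hx1, hx2⟩ := Subgroup.mem_inf.1 hx
      have hx1' : x ∈ P.subgroupOf L := hx1
      rw [Subgroup.mem_subgroupOf] at hx1' ⊢
      apply h1
      refine Subgroup.mem_inf.2 ⟨hx1', ?_⟩
      have h3 : (x : G) ∈ (⁅C.subgroupOf L, C.subgroupOf L⁆).map L.subtype := ⟨x, hx2, rfl⟩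
      rwa [Subgroup.map_commutator, hmap hCL] at h3) (by
      intro x hx
      obtain ⟨hx1, hx2⟩ := Subgroup.mem_inf.1 hx
      have hx1' : x ∈ P.subgroupOf L := hx1
      rw [Subgroup.mem_subgroupOf] at hx1' ⊢
      apply h2
      refine Subgroup.mem_inf.2 ⟨hx1', ?_⟩
      have h3 := Subgroup.mem_map_of_mem L.subtype hx2
      rw [Subgroup.map_commutator] at h3
      refine Subgroup.commutator_mono ?_ ?_ h3 <;>
      · rintro _ ⟨n, hn, rfl⟩
        refine Subgroup.mem_inf.2 ⟨n.2, ?_⟩
        rw [Subgroup.mem_normalizer_iff]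
        have hn' : n ∈ Subgroup.normalizer ((P.subgroupOf L : Subgroup L) : Set L) := hn
        intro y
        constructor
        · intro hy
          have h4 := (Subgroup.mem_normalizer_iff.1 hn' ⟨y, hPL hy⟩).1 hy
          exact h4
        · intro hy
          have hyL : y ∈ L := by
            have h5 := hPL hy
            have h6 := mul_mem (mul_mem (inv_mem n.2) h5) n.2
            have h7 : (n : G)⁻¹ * (L.subtype n * y * (L.subtype n)⁻¹) * (n : G) = y := by
              show (n : G)⁻¹ * ((n : G) * y * (n : G)⁻¹) * (n : G) = y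
              group
            rwa [h7] at h6
          exact (Subgroup.mem_normalizer_iff.1 hn' ⟨y, hyL⟩).2 hy)
  intro x hx
  obtain ⟨hx1, hx2⟩ := Subgroup.mem_inf.1 hx
  have h3 : (⟨x, hPL hx1⟩ : L) ∈ T.subgroupOf L := by
    apply key
    refine Subgroup.mem_inf.2 ⟨hx1, ?_⟩
    have h4 : x ∈ (⁅(⊤ : Subgroup L), (⊤ : Subgroup L)⁆).map L.subtype := by
      rw [Subgroup.map_commutator, ← MonoidHom.range_eq_map, L.range_subtype]; exact hx2
    obtain ⟨y, hy, hyx⟩ := h4
    have h5 : y = ⟨x, hPL hx1⟩ := Subtype.ext hyx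
    rwa [← h5]
  exact h3

end focal

/-! ### control of transfer -/

section main

variable {p : ℕ} [hp : Fact p.Prime]

theorem ZS_cent {G : Type*} [Group G] {P : Subgroup G} : P ≤ Subgroup.centralizer (Zs P : Set G) := by
  intro x hx
  rw [Subgroup.mem_centralizer_iff]
  exact fun z hz => ((mem_Zs.1 hz).2 x hx).symm

theorem cent_conj {G : Type*} [Group G] {Z : Subgroup G} {l c : G} (hl : l ∈ Subgroup.normalizer (Z : Set G))
    (hc : c ∈ Subgroup.centralizer (Z : Set G)) : l * c * l⁻¹ ∈ Subgroup.centralizer (Z : Set G) := by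
  rw [Subgroup.mem_centralizer_iff] at hc ⊢
  intro z hz
  have h1 : l⁻¹ * z * l ∈ Z := by
    have h2 := (Subgroup.mem_normalizer_iff.1 (inv_mem hl) z).1 hz
    rwa [inv_inv] at h2
  have h3 := hc _ h1
  calc z * (l * c * l⁻¹) = l * ((l⁻¹ * z * l) * c) * l⁻¹ := by group
    _ = l * (c * (l⁻¹ * z * l)) * l⁻¹ := by rw [h3]
    _ = _ := by group

theorem cent_le_normalizer {G : Type*} [Group G] {Z : Subgroup G} :
    Subgroup.centralizer (Z : Set G) ≤ Subgroup.normalizer (Z : Set G) := by
  intro c hc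
  rw [Subgroup.mem_centralizer_iff] at hc
  rw [Subgroup.mem_normalizer_iff]
  intro z
  constructor
  · intro hz
    rw [← hc z hz, mul_inv_cancel_right]; exact hz
  · intro hz
    have h1 := hc _ hz
    have h2 : z = c * z * c⁻¹ := by
      calc z = c⁻¹ * ((c * z * c⁻¹) * c) := by group
        _ = c⁻¹ * (c * (c * z * c⁻¹)) := by rw [h1]
        _ = _ := by group
    rw [h2]; exact hz

/-- **control of transfer** by the normalizers of `Z(S)` and `K(S)` -/
theorem ft (hp2 : p ≠ 2) : ∀ (n : ℕ) (G : Type u) [Group G] [Finite G], Nat.card G = n → FT p {ZF, KF} G := by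
  intro n
  induction n using Nat.strong_induction_on with
  | _ n ih =>
  intro G _ _ hn
  by_contra hG
  obtain ⟨S⟩ : Nonempty (Sylow p G) := inferInstance
  have hprop : ∀ (X : Type u) [Group X] [Finite X], IsSec G X → Nat.card X < Nat.card G → FT p {ZF, KF} X :=
    fun X _ _ _ hlt => ih (Nat.card X) (by omega) X rfl
  have hZF : (ZF : Fn.{u}) ∈ ({ZF, KF} : Set Fn.{u}) := Or.inl rfl
  have hKF : (KF : Fn.{u}) ∈ ({ZF, KF} : Set Fn.{u}) := Or.inr rfl
  have hQn := Qn (p := p) (G := G)
  obtain ⟨T, hT⟩ : ∃ T, T = focalI {ZF, KF} (S : Subgroup G) ⊤ := ⟨_, rfl⟩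
  obtain ⟨M, hM⟩ : ∃ M, M = Subgroup.normalizer ((T ⊓ pCore p G : Subgroup G) : Set G) := ⟨_, rfl⟩
  obtain ⟨hcon, ⟨hMne, hmax⟩, ⟨hQM1, hQM2⟩, -⟩ := minimal_failure hW ⟨_, hZF⟩ hprop hG S hT hM
  have hTZ : (S : Subgroup G) ⊓ ⁅Subgroup.normalizer (Zs (S : Subgroup G) : Set G),
      Subgroup.normalizer (Zs (S : Subgroup G) : Set G)⁆ ≤ T := by
    rw [hT]
    have h1 := le_focalI (T := (S : Subgroup G)) (H := ⊤) hZF
    rwa [induced_ZF, top_inf_eq] at h1
  have hTK : (S : Subgroup G) ⊓ ⁅Subgroup.normalizer (K (S : Subgroup G) : Set G),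
      Subgroup.normalizer (K (S : Subgroup G) : Set G)⁆ ≤ T := by
    rw [hT]
    have h1 := le_focalI (T := (S : Subgroup G)) (H := ⊤) hKF
    rwa [induced_KF, top_inf_eq] at h1
  -- `[Q, X] ≤ T` gives `X ≤ M`
  have hleM : ∀ X : Subgroup G, ⁅pCore p G, X⁆ ≤ T → X ≤ M := by
    intro X hX x hx
    rw [hM]
    have h1 : ∀ x ∈ X, ∀ t ∈ T ⊓ pCore p G, x * t * x⁻¹ ∈ T ⊓ pCore p G := by
      intro x hx t ht
      obtain ⟨ht1, ht2⟩ := Subgroup.mem_inf.1 ht
      refine Subgroup.mem_inf.2 ⟨?_, hQn.conj_mem t ht2 x⟩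
      have h2 : ⁅t, x⁆ ∈ T := hX (Subgroup.commutator_mem_commutator ht2 hx)
      have h3 := mul_mem (inv_mem h2) ht1
      have h4 : ⁅t, x⁆⁻¹ * t = x * t * x⁻¹ := by rw [commutatorElement_def]; group
      rwa [h4] at h3
    rw [Subgroup.mem_normalizer_iff]
    intro t
    refine ⟨fun ht => h1 x hx t ht, fun ht => ?_⟩
    have h2 := h1 x⁻¹ (inv_mem hx) _ ht
    rwa [show x⁻¹ * (x * t * x⁻¹) * x⁻¹⁻¹ = t by group] at h2
  have m : Min p S M :=
    { p2 := hp2
      con := hcon
      Mne := hMne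
      max := hmax
      bad := by
        intro h
        apply hMne
        rw [eq_top_iff]
        refine hleM ⊤ (h.trans (hQM1.trans (hQM2.trans inf_le_right)))
      Zn := by
        intro h
        exact hG (ft_of_normal hW S hZF (by rw [induced_ZF]; exact h))
      Kn := by
        intro h
        exact hG (ft_of_normal hW S hKF (by rw [induced_KF]; exact h))
      nrm := by
        intro N hN hNne hQN hJN
        apply hleM
        set P : Subgroup G := (S : Subgroup G) ⊓ N with hP
        have hPS : P ≤ S := inf_le_left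
        have hPN : P ≤ N := inf_le_right
        have hPp : IsPGroup p P := S.isPGroup'.to_le hPS
        have hPi : ¬ p ∣ P.relIndex N := by
          rw [hP, Subgroup.inf_relIndex_right]
          exact fun h => S.not_dvd_index (h.trans (Cfsg.Agent.Lib.GoldschmidtFusion.relIndex_dvd_index_of_normal_right _ _))
        have hKP : K P = K (S : Subgroup G) := K_eq_of_le hPS (le_inf Jt_le hJN)
        have hZ : Zs (S : Subgroup G) ≤ Zs P := by
          intro z hz
          have hz1 := mem_Zs.1 hz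
          have hzQ : z ∈ pCore p G := by
            apply hcon
            rw [Subgroup.mem_centralizer_iff]
            exact fun y hy => hz1.2 y (QS hy)
          exact mem_Zs.2 ⟨Subgroup.mem_inf.2 ⟨hz1.1, hQN hzQ⟩, fun y hy => hz1.2 y (hPS hy)⟩
        have hft : FT p {ZF, KF} N := hprop N (IsSec.subgroup N)
          (lt_of_le_of_ne (Subgroup.card_le_card_group N) (fun h => hNne (Subgroup.eq_top_of_card_eq N h)))
        have h1 := hft.subgroup hW hPN hPp hPi
        have h2 : focalI {ZF, KF} P N ≤ T := by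
          refine iSup₂_le ?_
          rintro W (rfl | rfl)
          · rw [induced_ZF]
            refine focal_split (p := p) (C := (N ⊓ Subgroup.normalizer (Zs P : Set G)) ⊓ Subgroup.centralizer (Zs P : Set G))
              hPp ?_ ?_ inf_le_left ?_ ?_ ?_
            · intro h
              exact hPi (h.trans ⟨_, (Subgroup.relIndex_mul_relIndex P _ N (le_inf hPN (ZS_cent.trans cent_le_normalizer)) inf_le_left).symm⟩)
            · exact le_inf (le_inf hPN (ZS_cent.trans cent_le_normalizer)) ZS_cent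
            · intro l hl c hc
              obtain ⟨hc1, hc2⟩ := Subgroup.mem_inf.1 hc
              exact Subgroup.mem_inf.2 ⟨mul_mem (mul_mem hl hc1) (inv_mem hl), cent_conj (Subgroup.mem_inf.1 hl).2 hc2⟩
            · refine le_trans (inf_le_inf hPS ?_) hTZ
              have h3 : (N ⊓ Subgroup.normalizer (Zs P : Set G)) ⊓ Subgroup.centralizer (Zs P : Set G) ≤
                  Subgroup.normalizer (Zs (S : Subgroup G) : Set G) := by
                refine inf_le_right.trans (le_trans ?_ cent_le_normalizer)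
                exact Subgroup.centralizer_le hZ
              exact Subgroup.commutator_mono h3 h3
            · refine le_trans (inf_le_inf hPS ?_) hTK
              have h3 : (N ⊓ Subgroup.normalizer (Zs P : Set G)) ⊓ Subgroup.normalizer (P : Set G) ≤
                  Subgroup.normalizer (K (S : Subgroup G) : Set G) := by
                rw [← hKP]
                exact inf_le_right.trans normalizer_le_K
              exact Subgroup.commutator_mono h3 h3
          · rw [induced_KF, hKP]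
            refine le_trans (inf_le_inf hPS ?_) hTK
            exact Subgroup.commutator_mono inf_le_right inf_le_right
        have h3 : ⁅pCore p G, N⁆ ≤ P ⊓ ⁅N, N⁆ := by
          refine le_inf (le_inf ((Subgroup.commutator_le_left _ _).trans QS) ((Subgroup.commutator_mono hQN le_rfl).trans
            (Subgroup.commutator_le_left _ _))) (Subgroup.commutator_mono hQN le_rfl)
        exact h3.trans (h1.trans h2) }
  exact Cfsg.Agent.H215.RO.false_of_min m

end main

end Cfsg.Agent.H215.Ctrl
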