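import Mathlib
import Cfsg.Agent.H526.ObComp
import Cfsg.Agent.H526.ObParity
import Cfsg.Agent.S0256

/-!
# S5004: the alternating groups have more than one 2-block
-/

set_option autoImplicit false
open Cfsg

namespace Cfsg.Agent.H215.NBAlt

open Cfsg.Agent.H526.OB

/-! ### small degrees by counting -/

/-- counting criterion in decidable form, in a group of even permutations -/
theorem nb_of_count {n r : ℕ} (hr : r.Prime) (hr2 : r ≠ 2) {w t : Equiv.Perm (Fin n)}
    (hws : Equiv.Perm.sign w = 1) (hts : Equiv.Perm.sign t = 1)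
    (h2r : ∀ g : Equiv.Perm (Fin n), g ^ (2 * r) = 1 → g ^ r = 1 ∨ g ^ 2 = 1 ∨ Equiv.Perm.sign g = -1)
    (hw : w ^ r = 1) (hw1 : w ≠ 1) (ht : t * t = 1) (ht1 : t ≠ 1) (htw : t * w * t = w⁻¹)
    {c : ℕ} (hc : Fintype.card {k : Equiv.Perm (Fin n) // Equiv.Perm.sign k = 1 ∧ k * k = 1 ∧
      k * t = t * k ∧ (k * w) ^ r = 1 ∧ k * w ≠ 1} = c) (hodd : Odd c) :
    NB (alternatingGroup (Fin n)) := by
  have : Fact r.Prime := ⟨hr⟩
  refine NB.of_count (r := r) hr hr2 ?_ (w := ⟨w, hws⟩) (t := ⟨t, hts⟩) ?_ ?_ ?_ ?_ ?_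
  · intro g hg
    have h1 : (g : Equiv.Perm (Fin n)) ^ (2 * r) = 1 := by
      have := pow_orderOf_eq_one g
      rw [hg] at this
      exact_mod_cast congrArg Subtype.val this
    have hr0 := hr.pos
    rcases h2r _ h1 with h | h | h
    · have h2 : g ^ r = 1 := Subtype.ext (by push_cast; exact h)
      have := Nat.le_of_dvd hr0 (orderOf_dvd_of_pow_eq_one h2)
      omega
    · have h2 : g ^ 2 = 1 := Subtype.ext (by push_cast; exact h)
      have h3 := Nat.le_of_dvd (by norm_num) (orderOf_dvd_of_pow_eq_one h2)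
      have := hr.two_le
      omega
    · have h2 : Equiv.Perm.sign (g : Equiv.Perm (Fin n)) = 1 := Equiv.Perm.mem_alternatingGroup.1 g.2
      rw [h2] at h
      exact absurd h (by decide)
  · apply orderOf_eq_prime
    · exact Subtype.ext (by push_cast; exact hw)
    · intro h
      exact hw1 (congrArg Subtype.val h)
  · exact Subtype.ext ht
  · intro h
    exact ht1 (congrArg Subtype.val h)
  · exact Subtype.ext htw
  · rw [← hc] at hodd
    convert hodd using 1
    rw [← Nat.card_eq_fintype_card]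
    refine Nat.card_congr ⟨fun k => ⟨k.1.1, Equiv.Perm.mem_alternatingGroup.1 k.1.2, ?_, ?_, ?_, ?_⟩,
      fun k => ⟨⟨k.1, k.2.1⟩, ?_, ?_, ?_⟩, fun k => rfl, fun k => rfl⟩
    · exact congrArg Subtype.val k.2.1
    · exact congrArg Subtype.val k.2.2.1
    · have h1 := pow_orderOf_eq_one (k.1 * ⟨w, hws⟩ : alternatingGroup (Fin n))
      rw [k.2.2.2] at h1
      exact congrArg Subtype.val h1
    · intro h
      have h1 : (k.1 * ⟨w, hws⟩ : alternatingGroup (Fin n)) = 1 := Subtype.ext h
      have h2 := k.2.2.2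
      rw [h1, orderOf_one] at h2
      exact hr.one_lt.ne h2
    · exact Subtype.ext k.2.2.1
    · exact Subtype.ext k.2.2.2.1
    · apply orderOf_eq_prime
      · exact Subtype.ext (by push_cast; exact k.2.2.2.2.1)
      · intro h
        exact k.2.2.2.2.2 (congrArg Subtype.val h)

def w5 : Equiv.Perm (Fin 5) := c[0, 1, 2]
def t5 : Equiv.Perm (Fin 5) := c[1, 2] * c[3, 4]

theorem nb_five : NB (alternatingGroup (Fin 5)) := by
  refine nb_of_count (r := 3) (w := w5) (t := t5) (c := 1) (by norm_num) (by norm_num)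
    (by decide +kernel) (by decide +kernel) (by decide +kernel) (by decide +kernel)
    (by decide +kernel) (by decide +kernel) (by decide +kernel) (by decide +kernel)
    (by decide +kernel) (by decide)

def w6 : Equiv.Perm (Fin 6) := c[0, 1, 2, 3, 4]
def t6 : Equiv.Perm (Fin 6) := c[1, 4] * c[2, 3]

/-- elements of order 10 do not exist in degree six -/
theorem pow_ten {g : Equiv.Perm (Fin 6)} (h : g ^ 10 = 1) : g ^ 5 = 1 ∨ g ^ 2 = 1 := by
  have hsum : g.cycleType.sum ≤ 6 := by
    rw [Equiv.Perm.sum_cycleType]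
    exact (Finset.card_le_univ _).trans (by simp)
  have hmem : ∀ n ∈ g.cycleType, n = 2 ∨ n = 5 := by
    intro n hn
    have h1 : n ∣ 10 := (Equiv.Perm.dvd_of_mem_cycleType hn).trans (orderOf_dvd_of_pow_eq_one h)
    have h2 : n ≤ 6 := (Multiset.le_sum_of_mem hn).trans hsum
    have h3 := Equiv.Perm.two_le_of_mem_cycleType hn
    interval_cases n <;> omega
  by_cases h5 : 5 ∈ g.cycleType
  · left
    obtain ⟨s, hs⟩ := Multiset.exists_cons_of_mem h5
    have hs0 : s = 0 := by
      refine Multiset.eq_zero_of_forall_notMem fun n hn => ?_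
      have h1 : n ∈ g.cycleType := by
        rw [hs]
        exact Multiset.mem_cons_of_mem hn
      have h2 := Equiv.Perm.two_le_of_mem_cycleType h1
      have h3 := Multiset.le_sum_of_mem hn
      rw [hs, Multiset.sum_cons] at hsum
      omega
    apply orderOf_dvd_iff_pow_eq_one.1
    rw [← Equiv.Perm.lcm_cycleType, hs, hs0]
    simp
  · right
    apply orderOf_dvd_iff_pow_eq_one.1
    rw [← Equiv.Perm.lcm_cycleType]
    refine Multiset.lcm_dvd.2 fun n hn => ?_
    rcases hmem n hn with rfl | rfl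
    · exact dvd_rfl
    · exact absurd hn h5

theorem nb_six : NB (alternatingGroup (Fin 6)) := by
  refine nb_of_count (r := 5) (w := w6) (t := t6) (c := 3) (by norm_num) (by norm_num)
    (by decide +kernel) (by decide +kernel)
    (fun g hg => (pow_ten hg).elim Or.inl fun h => Or.inr (Or.inl h)) (by decide +kernel)
    (by decide +kernel) (by decide +kernel) (by decide +kernel) (by decide +kernel)
    (by decide +kernel) (by decide)

theorem nb_eight : NB (alternatingGroup (Fin 8)) := by
  have hs : IsSimpleGroup (alternatingGroup (Fin 8)) := alternatingGroup.isSimpleGroup (by simp)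
  obtain ⟨e⟩ := S0256.result (F := ZMod 2) (by simp)
  refine NB.of_lie_two ?_ (Or.inl ⟨ZMod 2, inferInstance, inferInstance, inferInstance, 4, by norm_num,
    by norm_num, ⟨e.symm⟩⟩)
  intro h
  have h1 := h.is_comm.comm
    (⟨Equiv.swap 0 1 * Equiv.swap 1 2, by rw [Equiv.Perm.mem_alternatingGroup]; decide⟩ : alternatingGroup (Fin 8))
    ⟨Equiv.swap 0 1 * Equiv.swap 1 3, by rw [Equiv.Perm.mem_alternatingGroup]; decide⟩
  have h2 := congrArg (fun σ : alternatingGroup (Fin 8) => (σ : Equiv.Perm (Fin 8)) 0) h1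
  revert h2
  decide

/-! ### the inductive step -/

theorem apply_inv' {α : Type*} (c : Equiv.Perm α) (i : α) : c (c⁻¹ i) = i := by
  rw [← Equiv.Perm.mul_apply, mul_inv_cancel, Equiv.Perm.one_apply]


section

variable {α : Type*} [Fintype α] [DecidableEq α] (p : α → Prop) [DecidablePred p]

/-- the even permutations which fix all points outside `p` -/
def fixK : Subgroup (alternatingGroup α) where
  carrier := {σ | ∀ i, ¬ p i → (σ : Equiv.Perm α) i = i}
  one_mem' := fun i _ => rfl
  mul_mem' := by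
    intro a b ha hb i hi
    show (a : Equiv.Perm α) ((b : Equiv.Perm α) i) = i
    rw [hb i hi, ha i hi]
  inv_mem' := by
    intro a ha i hi
    show (a : Equiv.Perm α)⁻¹ i = i
    rw [Equiv.Perm.inv_eq_iff_eq]
    exact (ha i hi).symm

omit [DecidablePred p] in
theorem mem_fixK {σ : alternatingGroup α} :
    σ ∈ fixK p ↔ ∀ i, ¬ p i → (σ : Equiv.Perm α) i = i := Iff.rfl

/-- extension by the identity -/
def ext : alternatingGroup {i // p i} →* alternatingGroup α where
  toFun σ := ⟨Equiv.Perm.ofSubtype (σ : Equiv.Perm {i // p i}), by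
    rw [Equiv.Perm.mem_alternatingGroup, Equiv.Perm.sign_ofSubtype]
    exact Equiv.Perm.mem_alternatingGroup.1 σ.2⟩
  map_one' := Subtype.ext (map_one _)
  map_mul' a b := Subtype.ext (map_mul _ _ _)

theorem ext_injective : Function.Injective (ext p) := by
  intro a b h
  apply Subtype.ext
  exact Equiv.Perm.ofSubtype_injective (congrArg Subtype.val h)

theorem range_ext : (ext p).range = fixK p := by
  ext σ
  constructor
  · rintro ⟨τ, rfl⟩ i hi
    exact Equiv.Perm.ofSubtype_apply_of_not_mem _ hi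
  · intro h
    have h2 : ∀ i, p ((σ : Equiv.Perm α) i) ↔ p i := by
      intro i
      by_cases hi : p i
      · simp only [hi, iff_true]
        by_contra hcon
        have := h _ hcon
        rw [(σ : Equiv.Perm α).injective this] at hcon
        exact hcon hi
      · rw [h i hi]
    refine ⟨⟨(σ : Equiv.Perm α).subtypePerm h2, ?_⟩, Subtype.ext ?_⟩
    · rw [Equiv.Perm.mem_alternatingGroup, Equiv.Perm.sign_subtypePerm _ h2]
      · exact Equiv.Perm.mem_alternatingGroup.1 σ.2
      · intro x hx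
        by_contra hcon
        exact hx (h x hcon)
    · refine Equiv.Perm.ofSubtype_subtypePerm h2 ?_
      intro x hx
      by_contra hcon
      exact hx (h x hcon)

noncomputable def equivK : alternatingGroup {i // p i} ≃* fixK p :=
  (MonoidHom.ofInjective (ext_injective p)).trans (MulEquiv.subgroupCongr (range_ext p))

end

def tt (m : ℕ) : Equiv.Perm (Fin (m + 4)) :=
  Equiv.swap ⟨0, by omega⟩ ⟨1, by omega⟩ * Equiv.swap ⟨2, by omega⟩ ⟨3, by omega⟩

theorem tt_lt {m : ℕ} {i : Fin (m + 4)} (hi : i.val < 4) : tt m i ≠ i := by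
  obtain ⟨i, hi'⟩ := i
  have hi2 : i < 4 := hi
  unfold tt
  rw [Equiv.Perm.mul_apply, Ne, Fin.ext_iff]
  interval_cases i <;>
    simp [Equiv.swap_apply_def, Fin.ext_iff]

theorem tt_ge {m : ℕ} {i : Fin (m + 4)} (hi : ¬ i.val < 4) : tt m i = i := by
  obtain ⟨i, hi'⟩ := i
  have hi2 : ¬ i < 4 := hi
  unfold tt
  rw [Equiv.Perm.mul_apply]
  rw [Equiv.swap_apply_of_ne_of_ne (x := (⟨i, hi'⟩ : Fin (m + 4))) (by rw [Ne, Fin.ext_iff]; simp; omega)
    (by rw [Ne, Fin.ext_iff]; simp; omega)]
  rw [Equiv.swap_apply_of_ne_of_ne (by rw [Ne, Fin.ext_iff]; simp; omega)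
    (by rw [Ne, Fin.ext_iff]; simp; omega)]

theorem tt_sq (m : ℕ) : tt m * tt m = 1 := by
  have hd : Commute (Equiv.swap (⟨0, by omega⟩ : Fin (m + 4)) ⟨1, by omega⟩)
      (Equiv.swap (⟨2, by omega⟩ : Fin (m + 4)) ⟨3, by omega⟩) := by
    apply Equiv.Perm.Disjoint.commute
    rw [Equiv.Perm.disjoint_iff_disjoint_support]
    rw [Equiv.Perm.support_swap (by rw [Ne, Fin.ext_iff]; simp), Equiv.Perm.support_swap (by rw [Ne, Fin.ext_iff]; simp)]
    rw [Finset.disjoint_left]
    intro a ha hb
    rw [Finset.mem_insert, Finset.mem_singleton, Fin.ext_iff, Fin.ext_iff] at ha hb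
    simp only at ha hb
    omega
  unfold tt
  have h1 := Equiv.swap_mul_self (⟨0, by omega⟩ : Fin (m + 4)) ⟨1, by omega⟩
  have h2 := Equiv.swap_mul_self (⟨2, by omega⟩ : Fin (m + 4)) ⟨3, by omega⟩
  generalize Equiv.swap (⟨0, by omega⟩ : Fin (m + 4)) ⟨1, by omega⟩ = a at *
  generalize Equiv.swap (⟨2, by omega⟩ : Fin (m + 4)) ⟨3, by omega⟩ = b at *
  calc a * b * (a * b) = a * (b * a) * b := by group
    _ = a * (a * b) * b := by rw [hd.eq]
    _ = (a * a) * (b * b) := by group
    _ = 1 := by rw [h1, h2, one_mul]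

theorem tt_sign (m : ℕ) : Equiv.Perm.sign (tt m) = 1 := by
  unfold tt
  rw [map_mul, Equiv.Perm.sign_swap (by simp), Equiv.Perm.sign_swap (by simp)]
  rfl

/-- the involution -/
def TT (m : ℕ) : alternatingGroup (Fin (m + 4)) := ⟨tt m, tt_sign m⟩

/-- the complement of the four points -/
def pp (m : ℕ) (i : Fin (m + 4)) : Prop := ¬ i.val < 4

instance decPP (m : ℕ) : DecidablePred (pp m) := fun i => by unfold pp; infer_instance

noncomputable def eqv (m : ℕ) : {i : Fin (m + 4) // pp m i} ≃ Fin m where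
  toFun i := ⟨i.1.val - 4, by have := i.2; unfold pp at this; omega⟩
  invFun i := ⟨⟨i.val + 4, by omega⟩, by unfold pp; simp⟩
  left_inv i := by
    apply Subtype.ext
    apply Fin.ext
    have := i.2
    unfold pp at this
    show i.1.val - 4 + 4 = i.1.val
    omega
  right_inv i := by
    apply Fin.ext
    show i.val + 4 - 4 = i.val
    omega

theorem facts (m : ℕ) :
    IsPGroup 2 (Subgroup.zpowers (TT m)) ∧
    fixK (pp m) ≤ Subgroup.centralizer ((Subgroup.zpowers (TT m) : Subgroup _) : Set _) ∧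
    (∀ c ∈ Subgroup.centralizer ((Subgroup.zpowers (TT m) : Subgroup _) : Set _),
      ∀ k ∈ fixK (pp m), c * k * c⁻¹ ∈ fixK (pp m)) := by
  have hsq : TT m * TT m = 1 := Subtype.ext (tt_sq m)
  refine ⟨?_, ?_, ?_⟩
  · rintro ⟨x, hx⟩
    obtain ⟨i, rfl⟩ := Subgroup.mem_zpowers_iff.1 hx
    refine ⟨1, Subtype.ext ?_⟩
    show (TT m ^ i) ^ 2 ^ 1 = 1
    rw [← zpow_natCast, ← zpow_mul, mul_comm, zpow_mul, zpow_natCast, pow_one, pow_two, hsq, one_zpow]
  · intro k hk
    rw [Subgroup.zpowers_eq_closure, Subgroup.centralizer_closure, Subgroup.mem_centralizer_singleton_iff]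
    apply Subtype.ext
    show (k : Equiv.Perm (Fin (m + 4))) * tt m = tt m * k
    have hk' := (mem_fixK (pp m)).1 hk
    -- the supports are disjoint
    have hd : (k : Equiv.Perm (Fin (m + 4))).Disjoint (tt m) := by
      intro i
      by_cases hi : i.val < 4
      · left
        exact hk' i (by unfold pp; simpa using hi)
      · right
        exact tt_ge hi
    exact hd.commute
  · intro c hc k hk
    rw [Subgroup.zpowers_eq_closure, Subgroup.centralizer_closure,
      Subgroup.mem_centralizer_singleton_iff] at hc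
    rw [mem_fixK] at hk ⊢
    have hc' : (c : Equiv.Perm (Fin (m + 4))) * tt m = tt m * c := congrArg Subtype.val hc
    have hpres : ∀ i : Fin (m + 4), i.val < 4 → ((c : Equiv.Perm (Fin (m + 4)))⁻¹ i).val < 4 := by
      intro i hi
      by_contra hcon
      have h1 := tt_ge hcon
      have h2 : tt m i = i := by
        have h3 := congrArg (fun σ : Equiv.Perm (Fin (m + 4)) => σ ((c : Equiv.Perm (Fin (m + 4)))⁻¹ i)) hc'
        simp only [Equiv.Perm.mul_apply, apply_inv'] at h3
        rw [h1, apply_inv'] at h3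
        exact h3.symm
      exact tt_lt hi h2
    intro i hi
    have hi' : i.val < 4 := by unfold pp at hi; simpa using hi
    show (c : Equiv.Perm (Fin (m + 4))) ((k : Equiv.Perm (Fin (m + 4)))
      ((c : Equiv.Perm (Fin (m + 4)))⁻¹ i)) = i
    rw [hk _ (by unfold pp; simpa using hpres i hi'), apply_inv']

noncomputable def isoK (m : ℕ) : alternatingGroup (Fin m) ≃* fixK (pp m) :=
  (Equiv.altCongrHom (eqv m).symm).trans (equivK (pp m))

theorem nb_step {m : ℕ} (h : NB (alternatingGroup (Fin m))) : NB (alternatingGroup (Fin (m + 4))) := by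
  obtain ⟨h1, h2, h3⟩ := facts m
  exact NB.of_simple_le _ h1 _ h2 h3 (NB.iso (isoK m) h)

theorem nb_seven : NB (alternatingGroup (Fin 7)) := by
  obtain ⟨h1, h2, h3⟩ := facts 3
  have hcard : Nat.card (fixK (pp 3)) = 3 := by
    rw [← Nat.card_congr (isoK 3).toEquiv, Nat.card_eq_fintype_card]
    decide
  refine NB.of_odd_le _ h1 _ h2 h3 ?_ ?_
  · rw [hcard]; decide
  · intro h
    rw [h, Subgroup.card_bot] at hcard
    omega

/-- **Row ob_alt.** -/
theorem nb_alt {n : ℕ} (hn : 5 ≤ n) : NB (alternatingGroup (Fin n)) := by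
  induction n using Nat.strong_induction_on with
  | _ n ih =>
    by_cases h9 : 9 ≤ n
    · obtain ⟨m, rfl⟩ : ∃ m, n = m + 4 := ⟨n - 4, by omega⟩
      exact nb_step (ih m (by omega) (by omega))
    · have : n = 5 ∨ n = 6 ∨ n = 7 ∨ n = 8 := by omega
      rcases this with rfl | rfl | rfl | rfl
      · exact nb_five
      · exact nb_six
      · exact nb_seven
      · exact nb_eight

end Cfsg.Agent.H215.NBAlt
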