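import Mathlib
import Cfsg.Agent.H526.ObComp
import Cfsg.Agent.H442.ZerosTwisted

/-!
# S5004: the Tits group has more than one 2-block
-/

set_option autoImplicit false
open Cfsg

universe u

namespace Cfsg.Agent.H215.NBTits

open Cfsg.Agent.H526.OB

theorem nb_of {S : Type u} [Group S] [Finite S] {T : Type*} [Group T] (hs : IsSimpleGroup T)
    (hc : Nat.card T = 2 ^ 11 * 3 ^ 3 * 5 ^ 2 * 13) (χ : IrrCharacter T) (hχ : charDegree (χ : T → ℂ) = 2 ^ 11)
    (e : S ≃* T) : NB S := by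
  have hsS : IsSimpleGroup S := e.isSimpleGroup
  have hcS : Nat.card S = 2 ^ 11 * 3 ^ 3 * 5 ^ 2 * 13 := (Nat.card_congr e.toEquiv).trans hc
  have hfin : Finite T := Finite.of_equiv S e.toEquiv
  have hna : ¬ IsMulCommutative S := by
    intro h
    let _ : CommGroup S := { (inferInstance : Group S) with mul_comm := h.is_comm.comm }
    have h1 : (Nat.card S).Prime := IsSimpleGroup.prime_card
    rw [hcS] at h1
    norm_num at h1
  have h2 : (χ : T → ℂ) 1 = (2 : ℂ) ^ (10 + 1) := by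
    rw [Cfsg.Agent.Blocks.Basic.irr_one_eq_charDegree χ.2, hχ]
    norm_num
  have h3 : IsIrrCharacter S ((χ : T → ℂ) ∘ e) :=
    Blocks.CliffordCentral.isIrrCharacter_comp χ.2 e.toMonoidHom e.surjective
  refine NB.of_degree' hna h3 (k := 10) ?_
  show (χ : T → ℂ) (e 1) = _
  rw [map_one, h2]

/-- **Row ob_tits.** -/
theorem nb_tits {S : Type u} [Group S] [Finite S] (h : Cfsg.Lie.IsoTits S) : NB S := by
  obtain ⟨e⟩ := h
  obtain ⟨hidx, hs, hna, hcard⟩ := Cfsg.Agent.S1074.result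
  obtain ⟨χ, hχ⟩ := H442.ZerosTwisted.exists_deg
  exact nb_of hs hcard χ hχ e

end Cfsg.Agent.H215.NBTits
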